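import Mathlib
import Cfsg.Agent.H429.CD.FourPre
import Cfsg.Agent.H370.AAM.TailB

/-!
# S3677, row `PΩ₈⁺(q)` (helper429)
-/

set_option autoImplicit false

namespace Cfsg.Agent.H429.CD

open Subgroup Cfsg Cfsg.Agent.H364 Cfsg.Agent.H902.Lte Cfsg.Agent.H902.Art Cfsg.Agent.H60.DE Cfsg.Agent.H221.CD

universe u

variable {p f d m : ℕ} {G : Type u} [Group G] [Finite G] {K : Subgroup G} [K.Normal] {S : Subgroup (G ⧸ K)}

/-- **The case `n = 4`.** -/
theorem four (h : SD G 4 p f d m K S)
    (hidx : ∀ x : G, x ≠ 1 → ¬ p ∣ (centralizer ({x} : Set G)).index →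
      (centralizer ({x} : Set G)).index = ((p ^ f) ^ 2 + 1) ^ 2 * ((p ^ f) ^ 6 - 1)) : IsSimpleGroup G := by
  have := h.normal
  have := h.simple
  obtain ⟨s, hs, hso, hsS⟩ := h.ex
  have hpK := p_not_dvd_K h hidx
  have hE := noEdge_quot h hs hso
  have hsp : s ≠ p := by
    rintro rfl
    have h1 := h.num.d_cases
    rcases Nat.eq_zero_or_pos d with h0 | h0
    · omega
    · have h2 : ((s ^ f : ℕ) : ZMod s) = 0 := by
        rw [ZMod.natCast_eq_zero_iff]
        exact dvd_pow_self s (by have := h.hY.hf; omega)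
      rw [h2] at hso
      have h3 : orderOf (0 : ZMod s) = 0 := by
        rw [orderOf_eq_zero_iff']
        intro k hk
        have := Fact.mk hs
        rw [zero_pow (by omega)]
        exact zero_ne_one
      omega
  refine Cfsg.Agent.H370.AAM.rowD (K := K) (H := S) h.nonab h.out h.hY hs hsp ?_ hE hsS hpK
    fun r hr _ hro => not_dvd_K h hr (Or.inl hro)
  rcases h.num.d_cases with h1 | h1
  · left; rw [hso, h1]
  · right; rw [hso, h1]

end Cfsg.Agent.H429.CD
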